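import Mathlib

/-!
# Sylow numbers of a transitive group of degree 18 in which three fixed points force the identity
-/

set_option autoImplicit false
set_option linter.unusedSectionVars false

namespace Cfsg.Agent.Fg24.Sylow17

universe u v

variable {X : Type u} [Group X] [Finite X] {Ω : Type v} [Fintype Ω] [MulAction X Ω]

/-- The hypotheses. -/
structure Ctx (X : Type u) [Group X] (Ω : Type v) [MulAction X Ω] (d : ℕ) : Prop where
  degree : Nat.card Ω = 18
  card : Nat.card X = 18 * (17 * d)
  d_cases : d = 8 ∨ d = 16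
  stab : ∀ a : Ω, Nat.card (MulAction.stabilizer X a) = 17 * d
  fix3 : ∀ (g : X) (a b c : Ω), a ≠ b → a ≠ c → b ≠ c → g • a = a → g • b = b → g • c = c → g = 1

variable {d : ℕ} (C : Ctx X Ω d)
include C

theorem not_three {a : Ω} {y : X} (hy : orderOf y = 3) : y • a ≠ a := fun h => by
  have h1 := Subgroup.orderOf_dvd_natCard (MulAction.stabilizer X a) (x := y) h
  rw [hy, C.stab] at h1
  rcases C.d_cases with rfl | rfl <;> norm_num at h1

theorem prime_two_fixed {q : ℕ} (hq : q = 3 ∨ q = 17) {y : X} (hy : orderOf y = q) {a b : Ω}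
    (hab : a ≠ b) (ha : y • a = a) (hb : y • b = b) : False := by
  classical
  haveI : Fact q.Prime := ⟨by rcases hq with rfl | rfl <;> norm_num⟩
  obtain ⟨σ, hσd⟩ : ∃ σ : Equiv.Perm Ω, σ = MulAction.toPerm y := ⟨_, rfl⟩
  have hτ : ∀ x : Ω, (x ≠ a ∧ x ≠ b) ↔ (σ x ≠ a ∧ σ x ≠ b) := fun x => by
    rw [hσd, MulAction.toPerm_apply]
    constructor
    · rintro ⟨h1, h2⟩
      exact ⟨fun h => h1 (smul_left_cancel y (h.trans ha.symm)),
        fun h => h2 (smul_left_cancel y (h.trans hb.symm))⟩
    · rintro ⟨h1, h2⟩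
      exact ⟨fun h => h1 (h ▸ ha), fun h => h2 (h ▸ hb)⟩
  let τ : Equiv.Perm {x : Ω // x ≠ a ∧ x ≠ b} := Equiv.subtypeEquiv σ hτ
  have hpow : ∀ (n : ℕ) (x : {x : Ω // x ≠ a ∧ x ≠ b}), ((τ ^ n) x : Ω) = y ^ n • (x : Ω) := by
    intro n
    induction n with
    | zero => intro x; simp
    | succ n ih =>
      intro x
      rw [pow_succ', Equiv.Perm.mul_apply, pow_succ' y, mul_smul, ← ih, ← MulAction.toPerm_apply y,
        ← hσd]
      rfl
  have hτq : τ ^ q ^ 1 = 1 := Equiv.ext fun x => Subtype.ext (by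
    rw [hpow, pow_one, ← hy, pow_orderOf_eq_one, one_smul]; rfl)
  have h16 : Fintype.card {x : Ω // x ≠ a ∧ x ≠ b} = 16 := by
    rw [Fintype.card_subtype]
    have : (Finset.univ.filter fun x : Ω => x ≠ a ∧ x ≠ b) = (Finset.univ.erase a).erase b := by
      ext x; simp [and_comm]
    rw [this, Finset.card_erase_of_mem (by simp [hab.symm]),
      Finset.card_erase_of_mem (Finset.mem_univ _), Finset.card_univ, ← Nat.card_eq_fintype_card,
      C.degree]
  obtain ⟨c, hc⟩ := Equiv.Perm.exists_fixed_point_of_prime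
    (show ¬ q ∣ Fintype.card {x : Ω // x ≠ a ∧ x ≠ b} by
      rw [h16]; rcases hq with rfl | rfl <;> norm_num) hτq
  have hyc : y • (c : Ω) = c := by
    have := hpow 1 c
    rw [pow_one, pow_one, hc] at this
    exact this.symm
  have := C.fix3 y a b c hab c.2.1.symm c.2.2.symm ha hb hyc
  rw [this, orderOf_one] at hy
  rcases hq with rfl | rfl <;> omega

/-- A Sylow 2-subgroup is self-normalizing. -/
theorem card_sylow_two [Fact (Nat.Prime 2)] : Nat.card (Sylow 2 X) = 153 := by
  classical
  obtain ⟨S⟩ : Nonempty (Sylow 2 X) := inferInstance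
  have hS : Nat.card (S : Subgroup X) = 2 * d := by
    rw [S.card_eq_multiplicity, C.card]
    rcases C.d_cases with rfl | rfl
    · rw [show (18 * (17 * 8) : ℕ) = 2 ^ 4 * 153 by norm_num,
        Nat.factorization_mul (by norm_num) (by norm_num), Finsupp.add_apply,
        Nat.Prime.factorization_pow Nat.prime_two, Finsupp.single_eq_same,
        Nat.factorization_eq_zero_of_not_dvd (by norm_num)]
      norm_num
    · rw [show (18 * (17 * 16) : ℕ) = 2 ^ 5 * 153 by norm_num,
        Nat.factorization_mul (by norm_num) (by norm_num), Finsupp.add_apply,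
        Nat.Prime.factorization_pow Nat.prime_two, Finsupp.single_eq_same,
        Nat.factorization_eq_zero_of_not_dvd (by norm_num)]
      norm_num
  have hmul : ∀ a : Ω, Nat.card (MulAction.orbit (S : Subgroup X) a) *
      Nat.card (MulAction.stabilizer (S : Subgroup X) a) = 2 * d := fun a => by
    have h1 := MulAction.index_stabilizer (S : Subgroup X) a
    have h2 := Subgroup.card_mul_index (MulAction.stabilizer (S : Subgroup X) a)
    rw [h1, ← Nat.card_coe_set_eq, hS, mul_comm] at h2
    exact h2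
  have hstab : ∀ a : Ω, ¬ Nat.card (MulAction.stabilizer (S : Subgroup X) a) = 2 * d := fun a h => by
    have h1 : (S : Subgroup X) ≤ MulAction.stabilizer X a := fun g hg => by
      have htop : MulAction.stabilizer (S : Subgroup X) a = ⊤ :=
        Subgroup.eq_top_of_card_eq _ (by rw [h, hS])
      exact (htop ▸ Subgroup.mem_top (⟨g, hg⟩ : (S : Subgroup X)) :
        (⟨g, hg⟩ : (S : Subgroup X)) ∈ MulAction.stabilizer (S : Subgroup X) a)
    have h2 := Subgroup.card_dvd_of_le h1
    rw [C.stab, hS] at h2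
    rcases C.d_cases with rfl | rfl <;> norm_num at h2
  -- an orbit of length two
  obtain ⟨a, ha⟩ : ∃ a : Ω, Nat.card (MulAction.orbit (S : Subgroup X) a) = 2 := by
    by_contra hne
    push Not at hne
    have h4 : ∀ a : Ω, 4 ∣ Nat.card (MulAction.orbit (S : Subgroup X) a) := fun a => by
      have hd : Nat.card (MulAction.orbit (S : Subgroup X) a) ∣ 2 * d := ⟨_, (hmul a).symm⟩
      have h1 : Nat.card (MulAction.orbit (S : Subgroup X) a) ≠ 1 := fun h => hstab a (by
        have := hmul a
        rw [h, one_mul] at this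
        exact this)
      have hlist : ∀ d, d = 8 ∨ d = 16 → ∀ n, n ≤ 2 * d → n ∣ 2 * d → n ≠ 1 → n ≠ 2 → 4 ∣ n := by
        rintro _ (rfl | rfl) <;> decide +kernel
      exact hlist d C.d_cases _ (Nat.le_of_dvd (by rcases C.d_cases with rfl | rfl <;> norm_num) hd)
        hd h1 (hne a)
    have h18 : 4 ∣ Nat.card Ω := by
      rw [Nat.card_congr (MulAction.selfEquivSigmaOrbits (S : Subgroup X) Ω)]
      haveI : Fintype (Quotient (MulAction.orbitRel (S : Subgroup X) Ω)) := Fintype.ofFinite _
      rw [Nat.card_sigma]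
      exact Finset.dvd_sum fun ω _ => h4 _
    rw [C.degree] at h18
    norm_num at h18
  obtain ⟨b, hb, hba⟩ : ∃ b ∈ MulAction.orbit (S : Subgroup X) a, b ≠ a := by
    by_contra h
    push Not at h
    have : MulAction.orbit (S : Subgroup X) a = {a} :=
      Set.eq_singleton_iff_unique_mem.2 ⟨MulAction.mem_orbit_self a, h⟩
    rw [this, Nat.card_coe_set_eq, Set.ncard_singleton] at ha
    omega
  have horb : ∀ {a b : Ω}, b ≠ a → b ∈ MulAction.orbit (S : Subgroup X) a →
      Nat.card (MulAction.orbit (S : Subgroup X) a) = 2 →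
        MulAction.orbit (S : Subgroup X) a = {a, b} := fun {a b} hba hb ha => by
    refine (Set.eq_of_subset_of_ncard_le ?_ ?_ (Set.toFinite _)).symm
    · rintro x (rfl | rfl)
      · exact MulAction.mem_orbit_self _
      · exact hb
    · rw [← Nat.card_coe_set_eq, ha, Set.ncard_pair hba.symm]
  -- the pair is the only orbit of length two
  have huniq : ∀ a', Nat.card (MulAction.orbit (S : Subgroup X) a') = 2 → a' = a ∨ a' = b := by
    intro a' ha'
    by_contra hne
    push Not at hne
    have hA : MulAction.stabilizer (S : Subgroup X) a ≠ ⊥ ∧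
        Nat.card (MulAction.stabilizer (S : Subgroup X) a) = d := by
      have := hmul a
      rw [ha] at this
      refine ⟨fun h => ?_, by omega⟩
      rw [h, Subgroup.card_bot] at this
      rcases C.d_cases with rfl | rfl <;> omega
    have hA' : Nat.card (MulAction.stabilizer (S : Subgroup X) a') = d := by
      have := hmul a'
      rw [ha'] at this
      omega
    have hI : 2 ≤ Nat.card (MulAction.stabilizer (S : Subgroup X) a ⊓
        MulAction.stabilizer (S : Subgroup X) a' : Subgroup (S : Subgroup X)) := by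
      have h1 := Subgroup.index_inf_le (H := MulAction.stabilizer (S : Subgroup X) a)
        (K := MulAction.stabilizer (S : Subgroup X) a')
      rw [MulAction.index_stabilizer, MulAction.index_stabilizer, ← Nat.card_coe_set_eq,
        ← Nat.card_coe_set_eq, ha, ha'] at h1
      have h2 := Subgroup.card_mul_index (MulAction.stabilizer (S : Subgroup X) a ⊓
        MulAction.stabilizer (S : Subgroup X) a')
      rw [hS] at h2
      rcases C.d_cases with rfl | rfl <;> nlinarith
    obtain ⟨g, hg, hg1⟩ := (Subgroup.nontrivial_iff_exists_ne_one _).1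
      (Finite.one_lt_card_iff_nontrivial.1 hI)
    obtain ⟨t, ht⟩ := hb
    have hgb : g • b = b := by
      have : g • b ∈ MulAction.orbit (S : Subgroup X) a := by
        rw [← ht, ← mul_smul]; exact MulAction.mem_orbit _ _
      rw [horb hba ⟨t, ht⟩ ha] at this
      rcases this with h | h
      · exact absurd (smul_left_cancel g (h.trans (show g • a = a from hg.1).symm)) hba
      · exact h
    exact hg1 (Subtype.ext (C.fix3 (g : X) a b a' hba.symm hne.1.symm hne.2.symm hg.1 hgb hg.2))
  -- no element of odd prime order normalizes the Sylow subgroup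
  have hidx := Subgroup.card_mul_index (Subgroup.normalizer ((S : Subgroup X) : Set X))
  have hiS : (Subgroup.normalizer ((S : Subgroup X) : Set X)).index = Nat.card (Sylow 2 X) :=
    (Sylow.card_eq_index_normalizer S).symm
  rw [hiS, C.card] at hidx
  have hdvd : Nat.card (S : Subgroup X) ∣
      Nat.card (Subgroup.normalizer ((S : Subgroup X) : Set X)) :=
    Subgroup.card_dvd_of_le Subgroup.le_normalizer
  have hno : ∀ q, q = 3 ∨ q = 17 →
      ¬ q ∣ Nat.card (Subgroup.normalizer ((S : Subgroup X) : Set X)) := by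
    intro q hq hqd
    haveI : Fact q.Prime := ⟨by rcases hq with rfl | rfl <;> norm_num⟩
    obtain ⟨⟨y, hyN⟩, hy⟩ := exists_prime_orderOf_dvd_card' q hqd
    replace hy : orderOf y = q := (Subgroup.orderOf_coe ⟨y, hyN⟩).trans hy
    have hinv : y⁻¹ ∈ Subgroup.normalizer ((S : Subgroup X) : Set X) := inv_mem hyN
    have himg : ∀ z : X, z ∈ Subgroup.normalizer ((S : Subgroup X) : Set X) → ∀ c : Ω,
        ∀ e ∈ MulAction.orbit (S : Subgroup X) c, z • e ∈ MulAction.orbit (S : Subgroup X) (z • c) := by
      rintro z hz c _ ⟨s, rfl⟩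
      refine ⟨⟨z * s * z⁻¹, (Subgroup.mem_normalizer_iff.1 hz s).1 s.2⟩, ?_⟩
      show (z * (s : X) * z⁻¹) • z • c = z • (s : X) • c
      rw [smul_smul, smul_smul, inv_mul_cancel_right]
    have heq : Nat.card (MulAction.orbit (S : Subgroup X) (y • a)) = 2 := by
      refine Eq.trans ?_ ha
      refine Nat.card_congr
        { toFun := fun e => ⟨y⁻¹ • e.1, by simpa using himg _ hinv _ _ e.2⟩
          invFun := fun e => ⟨y • e.1, himg _ hyN _ _ e.2⟩
          left_inv := fun e => by simp
          right_inv := fun e => by simp }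
    have hyb : y • b = a ∨ y • b = b := by
      refine huniq _ ?_
      have : MulAction.orbit (S : Subgroup X) (y • b) = MulAction.orbit (S : Subgroup X) (y • a) :=
        MulAction.orbit_eq_iff.2 (himg _ hyN _ _ hb)
      rw [this, heq]
    rcases huniq _ heq with hya | hya
    · refine prime_two_fixed C hq hy hba.symm hya (hyb.resolve_left fun h => hba ?_)
      exact smul_left_cancel y (h.trans hya.symm)
    · have hyb' : y • b = a := hyb.resolve_right fun h =>
        hba (smul_left_cancel y (h.trans hya.symm))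
      have h2 : (y ^ 2) • a = a ∧ (y ^ 2) • b = b := by
        constructor <;> rw [pow_two, mul_smul]
        · rw [hya, hyb']
        · rw [hyb', hya]
      refine prime_two_fixed C hq ?_ hba.symm h2.1 h2.2
      rw [Nat.Coprime.orderOf_pow (by rw [hy]; rcases hq with rfl | rfl <;> norm_num), hy]
  have hlist : ∀ d, d = 8 ∨ d = 16 → ∀ N ∈ Nat.divisors (18 * (17 * d)), 2 * d ∣ N → ¬ 3 ∣ N →
      ¬ 17 ∣ N → 18 * (17 * d) / N = 153 := by
    rintro _ (rfl | rfl) <;> decide +kernel
  have hN0 : 0 < Nat.card (Subgroup.normalizer ((S : Subgroup X) : Set X)) := Nat.card_pos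
  rw [← hlist d C.d_cases _ (Nat.mem_divisors.2 ⟨⟨_, hidx.symm⟩, by
      rcases C.d_cases with rfl | rfl <;> norm_num⟩) (hS ▸ hdvd) (hno 3 (Or.inl rfl))
    (hno 17 (Or.inr rfl)), ← hidx, Nat.mul_div_cancel_left _ hN0]

/-- With an element of order nine, a Sylow number for 3 dividing 136 equals 136. -/
theorem card_sylow_three [Fact (Nat.Prime 3)] {x : X} (hx : orderOf x = 9)
    (hdvd : Nat.card (Sylow 3 X) ∣ 136) : Nat.card (Sylow 3 X) = 136 := by
  classical
  have hno17 : ∀ z : X, orderOf z = 17 → Commute z x → False := by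
    intro z hz hzx
    haveI : Fact (Nat.Prime 17) := ⟨by norm_num⟩
    have hσ : (MulAction.toPerm z : Equiv.Perm Ω) ^ 17 ^ 1 = 1 := by
      rw [pow_one, ← MulAction.toPermHom_apply, ← map_pow, ← hz, pow_orderOf_eq_one, map_one]
    obtain ⟨a, ha⟩ := Equiv.Perm.exists_fixed_point_of_prime
      (show ¬ 17 ∣ Fintype.card Ω by rw [← Nat.card_eq_fintype_card, C.degree]; norm_num) hσ
    have hxa : z • (x • a) = x • a := by
      rw [← mul_smul, hzx.eq, mul_smul, show z • a = a from ha]
    have hx3 : orderOf (x ^ 3) = 3 := by rw [orderOf_pow, hx]; norm_num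
    have hne : x • a ≠ a := fun h => not_three C hx3 (by
      rw [pow_three, mul_smul, mul_smul, h, h, h])
    exact prime_two_fixed C (Or.inr rfl) hz hne.symm ha hxa
  obtain ⟨Q, hQ⟩ := (IsPGroup.of_card (p := 3) (n := 2)
    (by rw [Nat.card_zpowers, hx]; norm_num) : IsPGroup 3 (Subgroup.zpowers x)).exists_le_sylow
  have hQ9 : Nat.card (Q : Subgroup X) = 9 := by
    rw [Q.card_eq_multiplicity, C.card]
    rcases C.d_cases with rfl | rfl
    · rw [show (18 * (17 * 8) : ℕ) = 3 ^ 2 * 272 by norm_num,
        Nat.factorization_mul (by norm_num) (by norm_num), Finsupp.add_apply,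
        Nat.Prime.factorization_pow Nat.prime_three, Finsupp.single_eq_same,
        Nat.factorization_eq_zero_of_not_dvd (by norm_num)]
      norm_num
    · rw [show (18 * (17 * 16) : ℕ) = 3 ^ 2 * 544 by norm_num,
        Nat.factorization_mul (by norm_num) (by norm_num), Finsupp.add_apply,
        Nat.Prime.factorization_pow Nat.prime_three, Finsupp.single_eq_same,
        Nat.factorization_eq_zero_of_not_dvd (by norm_num)]
      norm_num
  have hQx : (Q : Subgroup X) = Subgroup.zpowers x :=
    (Subgroup.eq_of_le_of_card_ge hQ (by rw [Nat.card_zpowers, hx, hQ9])).symm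
  by_contra hne
  have hidx := Subgroup.card_mul_index (Subgroup.normalizer ((Q : Subgroup X) : Set X))
  have hiQ : (Subgroup.normalizer ((Q : Subgroup X) : Set X)).index = Nat.card (Sylow 3 X) :=
    (Sylow.card_eq_index_normalizer Q).symm
  rw [hiQ, C.card] at hidx
  obtain ⟨n, hn⟩ : ∃ n, n = Nat.card (Sylow 3 X) := ⟨_, rfl⟩
  rw [← hn] at hidx hdvd hne
  have hmod : n % 3 = 1 := by rw [hn, card_sylow_modEq_one 3 X]
  have hcases : n ∈ [1, 4, 34] := by
    have : ∀ n ∈ Nat.divisors 136, n % 3 = 1 → n ≠ 136 → n ∈ [1, 4, 34] := by decide +kernel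
    exact this n (Nat.mem_divisors.2 ⟨hdvd, by norm_num⟩) hmod hne
  obtain ⟨N, hN⟩ : ∃ N, N = Subgroup.normalizer ((Q : Subgroup X) : Set X) := ⟨_, rfl⟩
  rw [← hN] at hidx
  -- conjugation acts on the cyclic group of order nine
  have hconj : ∀ g ∈ N, ∃ k, k < 9 ∧ g * x * g⁻¹ = x ^ k := by
    intro g hg
    rw [hN, hQx] at hg
    have h := (Subgroup.mem_normalizer_iff.1 hg x).1 (Subgroup.mem_zpowers x)
    rw [← mem_powers_iff_mem_zpowers, mem_powers_iff_mem_range_orderOf, hx] at h
    obtain ⟨k, hk, hk'⟩ := Finset.mem_image.1 h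
    exact ⟨k, Finset.mem_range.1 hk, hk'.symm⟩
  have hiter : ∀ (g : X) (k : ℕ), g * x * g⁻¹ = x ^ k → ∀ j : ℕ,
      g ^ j * x * (g ^ j)⁻¹ = x ^ k ^ j := by
    intro g k hk j
    induction j with
    | zero => simp
    | succ j ih =>
      calc g ^ (j + 1) * x * (g ^ (j + 1))⁻¹ = g * (g ^ j * x * (g ^ j)⁻¹) * g⁻¹ := by
            rw [pow_succ']; group
        _ = (g * x * g⁻¹) ^ k ^ j := by rw [ih, conj_pow]
        _ = x ^ k ^ (j + 1) := by rw [hk, ← pow_mul, pow_succ']
  have hcomm : ∀ g : X, g * x * g⁻¹ = x → Commute g x := fun g h => mul_inv_eq_iff_eq_mul.1 h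
  have h17 : ¬ 17 ∣ Nat.card N := by
    intro h
    haveI : Fact (Nat.Prime 17) := ⟨by norm_num⟩
    obtain ⟨⟨z, hzN⟩, hz⟩ := exists_prime_orderOf_dvd_card' 17 h
    replace hz : orderOf z = 17 := (Subgroup.orderOf_coe ⟨z, hzN⟩).trans hz
    obtain ⟨k, hk, hkx⟩ := hconj z hzN
    have h1 := hiter z k hkx 17
    rw [← hz, pow_orderOf_eq_one, one_mul, inv_one, mul_one, hz] at h1
    have h2 := pow_eq_pow_iff_modEq.1 ((pow_one x).trans h1)
    rw [hx, Nat.ModEq] at h2
    have hk1 : ∀ k : ℕ, k < 9 → k ^ 17 % 9 = 1 → k = 1 := by decide +kernel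
    rw [hk1 k hk h2.symm, pow_one] at hkx
    exact hno17 z hz (hcomm z hkx)
  simp only [List.mem_cons, List.not_mem_nil, or_false] at hcases
  have h34 : n = 34 := by
    rcases hcases with h | h | h
    · exfalso; rw [h, mul_one] at hidx; rw [hidx] at h17; exact h17 (by
        rcases C.d_cases with rfl | rfl <;> norm_num)
    · exfalso
      rw [h] at hidx
      refine h17 ⟨18 * d / 4, ?_⟩
      rcases C.d_cases with rfl | rfl <;> omega
    · exact h
  rw [h34] at hidx
  have hNc : Nat.card N = 9 * d := by omega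
  haveI : Fact (Nat.Prime 2) := ⟨Nat.prime_two⟩
  obtain ⟨T, hT⟩ := Sylow.exists_subgroup_card_pow_prime (G := N) 2 (n := 3)
    (by rw [hNc]; rcases C.d_cases with rfl | rfl <;> norm_num)
  choose k hk hkx using fun g : T => hconj ((g : N) : X) (g : N).2
  -- the centralizer in the two-group has index at most two
  have hk2 : ∀ g : T, k g = 1 ∨ k g = 8 := fun g => by
    have h1 := hiter _ _ (hkx g) 8
    have hg8 : ((g : N) : X) ^ 8 = 1 := by
      have := congrArg (fun z : T => ((z : N) : X)) (pow_card_eq_one' (x := g))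
      rw [hT] at this
      simpa using this
    rw [hg8, one_mul, inv_one, mul_one] at h1
    have h2 := pow_eq_pow_iff_modEq.1 ((pow_one x).trans h1)
    rw [hx, Nat.ModEq] at h2
    have : ∀ k : ℕ, k < 9 → k ^ 8 % 9 = 1 → k = 1 ∨ k = 8 := by decide +kernel
    exact this _ (hk g) h2.symm
  have hfree : ∀ (g : X) (a : Ω), g • a = a → g * x * g⁻¹ = x → g = 1 := by
    intro g a ha hgx
    have hc := hcomm g hgx
    have hx3 : orderOf (x ^ 3) = 3 := by rw [orderOf_pow, hx]; norm_num
    have hne : ∀ c : Ω, x • c ≠ c := fun c h => not_three C hx3 (by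
      rw [pow_three, mul_smul, mul_smul, h, h, h])
    have hne2 : x • x • a ≠ a := fun h => not_three C hx3 (a := a) (by
      have h2 : x ^ 2 ∈ MulAction.stabilizer X a :=
        MulAction.mem_stabilizer_iff.2 (by rw [pow_two, mul_smul, h])
      have h6 := pow_mem h2 6
      rw [← pow_mul, show 2 * 6 = 9 + 3 by norm_num, pow_add,
        show x ^ 9 = 1 by rw [← hx, pow_orderOf_eq_one], one_mul] at h6
      exact h6)
    refine C.fix3 g a (x • a) (x • x • a) (hne a).symm hne2.symm
      (fun h => hne a (smul_left_cancel x h).symm) ha ?_ ?_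
    · rw [← mul_smul, hc.eq, mul_smul, ha]
    · rw [← mul_smul, hc.eq, mul_smul, ← mul_smul g, hc.eq, mul_smul, ha]
  have hcount : 4 ≤ Nat.card {g : T // k g = 1} := by
    have hsum : Nat.card T = Nat.card {g : T // k g = 1} + Nat.card {g : T // ¬ k g = 1} := by
      rw [← Nat.card_sum]; exact (Nat.card_congr (Equiv.sumCompl _)).symm
    by_cases h8 : ∃ g₀ : T, ¬ k g₀ = 1
    · obtain ⟨g₀, hg₀⟩ := h8
      have hle : Nat.card {g : T // ¬ k g = 1} ≤ Nat.card {g : T // k g = 1} := by
        refine Nat.card_le_card_of_injective (fun g => ⟨g₀ * g.1, ?_⟩) fun a b h =>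
          Subtype.ext (mul_left_cancel (congrArg Subtype.val h :))
        have hg := (hk2 g.1).resolve_left g.2
        have hg0 := (hk2 g₀).resolve_left hg₀
        have h1 : (((g₀ * g.1 : T) : N) : X) * x * (((g₀ * g.1 : T) : N) : X)⁻¹ = x := by
          show ((g₀ : N) : X) * ((g.1 : N) : X) * x * (((g₀ : N) : X) * ((g.1 : N) : X))⁻¹ = x
          calc _ = ((g₀ : N) : X) * (((g.1 : N) : X) * x * ((g.1 : N) : X)⁻¹) * ((g₀ : N) : X)⁻¹ := by
                group
            _ = (((g₀ : N) : X) * x * ((g₀ : N) : X)⁻¹) ^ 8 := by rw [hkx, hg, conj_pow]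
            _ = x ^ (7 * 9 + 1) := by rw [hkx, hg0, ← pow_mul]
            _ = x := by
              rw [pow_add, pow_mul', show x ^ 9 = 1 by rw [← hx, pow_orderOf_eq_one], one_pow,
                one_mul, pow_one]
        have h2 := pow_eq_pow_iff_modEq.1 ((hkx (g₀ * g.1)).symm.trans (h1.trans (pow_one x).symm))
        rw [hx, Nat.ModEq] at h2
        rcases hk2 (g₀ * g.1) with h | h
        · exact h
        · rw [h] at h2; norm_num at h2
      omega
    · push Not at h8
      haveI : IsEmpty {g : T // ¬ k g = 1} := ⟨fun g => g.2 (h8 g.1)⟩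
      rw [Nat.card_of_isEmpty (α := {g : T // ¬ k g = 1}), hT] at hsum
      omega
  let A : Subgroup T :=
    { carrier := {g | ((g : N) : X) * x * ((g : N) : X)⁻¹ = x}
      one_mem' := by simp
      mul_mem' := fun {a b} ha hb => by
        show ((a : N) : X) * ((b : N) : X) * x * (((a : N) : X) * ((b : N) : X))⁻¹ = x
        calc _ = ((a : N) : X) * (((b : N) : X) * x * ((b : N) : X)⁻¹) * ((a : N) : X)⁻¹ := by group
          _ = x := by rw [hb, ha]
      inv_mem' := fun {a} ha => by
        show ((a : N) : X)⁻¹ * x * (((a : N) : X)⁻¹)⁻¹ = x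
        conv_lhs => rw [← (ha : ((a : N) : X) * x * ((a : N) : X)⁻¹ = x)]
        group }
  have hA : 4 ≤ Nat.card A := hcount.trans (Nat.card_le_card_of_injective
    (fun g => (⟨g.1, by
      show ((g.1 : N) : X) * x * ((g.1 : N) : X)⁻¹ = x
      rw [hkx, g.2, pow_one]⟩ : A)) fun a b h => Subtype.ext (congrArg (fun z : A => z.1) h :))
  -- semiregular on eighteen points
  have hdvd18 : Nat.card A ∣ 18 := by
    have h1 : ∀ a : Ω, MulAction.stabilizer A a = ⊥ := fun a => by
      rw [Subgroup.eq_bot_iff_forall]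
      intro g hg
      exact Subtype.ext (Subtype.ext (Subtype.ext (hfree _ a hg g.2)))
    rw [← C.degree, Nat.card_congr (MulAction.selfEquivSigmaOrbits A Ω)]
    haveI : Fintype (Quotient (MulAction.orbitRel A Ω)) := Fintype.ofFinite _
    rw [Nat.card_sigma]
    refine Finset.dvd_sum fun ω _ => ?_
    have h2 := MulAction.index_stabilizer A ω.out
    rw [h1, Subgroup.index_bot, ← Nat.card_coe_set_eq] at h2
    rw [← h2]
  have hA8 : Nat.card A ∣ 8 := (Subgroup.card_subgroup_dvd_card A).trans (by rw [hT]; norm_num)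
  have h3 := Nat.dvd_gcd hA8 hdvd18
  have h4 := Nat.le_of_dvd (by norm_num) h3
  norm_num at h4
  omega

end Cfsg.Agent.Fg24.Sylow17
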