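import Cfsg.Agent.Fg24.Sylow17.Degree18
import Cfsg.Agent.SylowNumber.Formula
import Cfsg.Agent.Fusion.PGroup
import Cfsg.Agent.Classical.SubfieldPSL
import Cfsg.Agent.Classical.SmallSimple
import Cfsg.Agent.S0732

/-!
# Centerless groups with Sylow numbers 18, 136 and 153

The kernel of the action on the Sylow 17-subgroups normalizes all Sylow subgroups for the primes
2, 3 and 17, which forces it to be trivial.
-/

set_option autoImplicit false
set_option linter.unusedSectionVars false

open Subgroup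

namespace Cfsg.Agent.Fg24.Sylow17

universe u v

local instance fact_seventeen : Fact (Nat.Prime 17) := ⟨by norm_num⟩

theorem card_sylow_congr {A : Type u} {B : Type v} [Group A] [Finite A] [Group B] [Finite B]
    (q : ℕ) [Fact q.Prime] (e : A ≃* B) : Nat.card (Sylow q A) = Nat.card (Sylow q B) := by
  obtain ⟨P⟩ : Nonempty (Sylow q A) := inferInstance
  rw [(P.mapSurjective (f := e.toMonoidHom) e.surjective).card_eq_index_normalizer,
    P.card_eq_index_normalizer]
  show _ = (normalizer ((((P : Subgroup A).map e.toMonoidHom) : Subgroup B) : Set B)).index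
  rw [← index_comap_of_surjective (f := e.toMonoidHom) _ e.surjective,
    comap_normalizer_eq_of_surjective _ e.surjective, comap_map_eq_self_of_injective e.injective]
  rfl

/-! ### An element of order nine -/

/-- An element of order nine of the special linear group. -/
def nine : Matrix.SpecialLinearGroup (Fin 2) (ZMod 17) :=
  ⟨!![7, 16; 1, 0], by decide +kernel⟩

/-- A transvection. -/
def transvec : Matrix.SpecialLinearGroup (Fin 2) (ZMod 17) :=
  ⟨!![1, 1; 0, 1], by decide +kernel⟩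

theorem nine_pow : nine ^ 9 = 1 := by decide +kernel

theorem nine_not_comm : transvec * nine ^ 3 ≠ nine ^ 3 * transvec := by decide +kernel

theorem orderOf_nine {M : Type*} [Group M]
    (f : Matrix.SpecialLinearGroup (Fin 2) (ZMod 17) →* M)
    (hf : ∀ g, f g = 1 → transvec * g = g * transvec) : orderOf (f nine) = 9 := by
  haveI : Fact (Nat.Prime 3) := ⟨Nat.prime_three⟩
  exact orderOf_eq_prime_pow (p := 3) (n := 1)
    (fun h => nine_not_comm (hf _ (by rw [map_pow]; simpa using h)))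
    (by rw [← map_pow, show 3 ^ (1 + 1) = 9 by norm_num, nine_pow, map_one])

theorem exists_orderOf_nine_psl :
    ∃ g : Matrix.ProjectiveSpecialLinearGroup (Fin 2) (ZMod 17), orderOf g = 9 :=
  ⟨_, orderOf_nine (QuotientGroup.mk' (center (Matrix.SpecialLinearGroup (Fin 2) (ZMod 17))))
    fun g hg => mem_center_iff.1 ((QuotientGroup.eq_one_iff g).1 hg) transvec⟩

theorem exists_orderOf_nine_pgl :
    ∃ g : Matrix.ProjGenLinGroup (Fin 2) (ZMod 17), orderOf g = 9 :=
  ⟨_, orderOf_nine (Matrix.ProjGenLinGroup.mk.comp Matrix.SpecialLinearGroup.toGL) fun g hg => by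
    have h := mem_center_iff.1 (Matrix.ProjGenLinGroup.mk_eq_one.1 hg)
      (Matrix.SpecialLinearGroup.toGL transvec)
    rw [← map_mul, ← map_mul] at h
    exact Matrix.SpecialLinearGroup.toGL_injective h⟩

/-! ### The group -/

variable {G : Type u} [Group G] [Finite G]

/-- The action on the Sylow 17-subgroups. -/
noncomputable abbrev act (G : Type u) [Group G] : G →* Equiv.Perm (Sylow 17 G) :=
  MulAction.toPermHom G (Sylow 17 G)

theorem act_apply (g : G) (Q : Sylow 17 G) : act G g Q = g • Q := rfl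

theorem mem_ker_act {g : G} : g ∈ (act G).ker ↔ ∀ Q : Sylow 17 G, g • Q = Q :=
  ⟨fun h Q => Equiv.ext_iff.1 h Q, fun h => Equiv.ext h⟩

instance : MulAction.IsPretransitive (act G).range (Sylow 17 G) :=
  ⟨fun a b => by
    obtain ⟨g, hg⟩ := MulAction.exists_smul_eq G a b
    exact ⟨⟨act G g, g, rfl⟩, hg⟩⟩

variable (h18 : Nat.card (Sylow 17 G) = 18)
include h18

theorem exists_cycle (P : Sylow 17 G) : ∃ σ : Equiv.Perm (Sylow 17 G),
    σ ∈ (act G).range ∧ orderOf σ = 17 ∧ (P : Subgroup G).map (act G) = zpowers σ ∧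
      (∀ Q, σ Q = Q ↔ Q = P) ∧
      ∀ a b : Sylow 17 G, a ≠ P → b ≠ P → ∃ i : ℕ, (σ ^ i) a = b := by
  classical
  letI := Fintype.ofFinite (Sylow 17 G)
  have hfix : ∀ Q : Sylow 17 G, (∀ p ∈ (P : Subgroup G), p • Q = Q) → Q = P := fun Q h => by
    have hle : (P : Subgroup G) ≤ normalizer ((Q : Subgroup G) : Set G) := fun p hp =>
      Sylow.smul_eq_iff_mem_normalizer.1 (h p hp)
    have hPQ : (P : Subgroup G) ≤ Q := fun y hy =>
      ((P.isPGroup'.inf_normalizer_sylow Q).le ⟨hy, hle hy⟩).2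
    exact Sylow.ext (P.3 Q.isPGroup' hPQ)
  obtain ⟨Q, hQ⟩ : ∃ Q : Sylow 17 G, Q ≠ P := by
    by_contra h
    push Not at h
    haveI : Subsingleton (Sylow 17 G) := ⟨fun a b => (h a).trans (h b).symm⟩
    have := Nat.card_of_subsingleton P
    omega
  obtain ⟨g, hgP, hg⟩ : ∃ g ∈ (P : Subgroup G), g • Q ≠ Q := by
    by_contra h
    push Not at h
    exact hQ (hfix Q h)
  obtain ⟨m, hm⟩ := (P.isPGroup'.map (act G)).exists_card_eq
  have hm1 : m ≤ 1 := by
    by_contra hm1
    have hd : 17 ^ 2 ∣ Nat.card (Equiv.Perm (Sylow 17 G)) :=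
      (pow_dvd_pow 17 (show 2 ≤ m by omega)).trans (hm ▸ card_subgroup_dvd_card _)
    rw [Nat.card_eq_fintype_card, Fintype.card_perm, ← Nat.card_eq_fintype_card, h18] at hd
    norm_num [Nat.factorial] at hd
  have hσmem : act G g ∈ (P : Subgroup G).map (act G) := mem_map_of_mem _ hgP
  have hσ1 : act G g ≠ 1 := fun h => hg (Equiv.ext_iff.1 h Q)
  have hord : orderOf (act G g) = 17 := by
    have hd := Subgroup.orderOf_dvd_natCard _ hσmem
    rw [hm] at hd
    exact ((Nat.dvd_prime (Fact.out : Nat.Prime 17)).1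
      (hd.trans (by simpa using pow_dvd_pow 17 hm1))).resolve_left
      fun h => hσ1 (orderOf_eq_one_iff.1 h)
  have hmap : (P : Subgroup G).map (act G) = zpowers (act G g) :=
    (eq_of_le_of_card_ge (zpowers_le.2 hσmem) (by
      rw [hm, Nat.card_zpowers, hord]
      calc 17 ^ m ≤ 17 ^ 1 := Nat.pow_le_pow_right (by norm_num) hm1
        _ = 17 := pow_one 17)).symm
  have hfixσ : ∀ R, act G g R = R ↔ R = P := fun R => by
    constructor
    · intro h
      refine hfix R fun p hp => ?_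
      obtain ⟨j, hj⟩ := mem_zpowers_iff.1 (hmap ▸ mem_map_of_mem (act G) hp)
      have h2 : act G g ∈ MulAction.stabilizer (Equiv.Perm (Sylow 17 G)) R := h
      have h3 := zpow_mem h2 j
      rw [hj] at h3
      exact h3
    · intro h
      rw [h]
      exact Sylow.smul_eq_iff_mem_normalizer.2 (le_normalizer hgP)
  refine ⟨act G g, ⟨g, rfl⟩, hord, hmap, hfixσ, fun a b ha hb => ?_⟩
  have hcyc : (act G g).IsCycle := Equiv.Perm.isCycle_of_prime_order'
    (by rw [hord]; norm_num) (by rw [hord, ← Nat.card_eq_fintype_card, h18]; norm_num)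
  exact hcyc.exists_pow_eq (fun h => ha ((hfixσ a).1 h)) (fun h => hb ((hfixσ b).1 h))

theorem ctx : ∃ d, Ctx (act G).range (Sylow 17 G) d ∧ ∃ x : (act G).range, orderOf x = 9 ∧
    ((d = 16 ∧ Nonempty ((act G).range ≃* Matrix.ProjGenLinGroup (Fin 2) (ZMod 17))) ∨
     (d = 8 ∧ Nonempty ((act G).range ≃* Matrix.ProjectiveSpecialLinearGroup (Fin 2) (ZMod 17)))) := by
  classical
  letI := Fintype.ofFinite (Sylow 17 G)
  obtain ⟨P⟩ : Nonempty (Sylow 17 G) := inferInstance
  obtain ⟨σ, hσX, hσo, hσP, hσfix, hσtr⟩ := exists_cycle h18 P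
  have hσ17 : σ ^ 17 = 1 := orderOf_dvd_iff_pow_eq_one.1 hσo.dvd
  have hconj : ∀ τ : (act G).range, τ • P = P →
      ∃ k : Fin 17, k.1 ≠ 0 ∧ (τ : Equiv.Perm (Sylow 17 G)) * σ * (τ : Equiv.Perm (Sylow 17 G))⁻¹ =
        σ ^ k.1 := by
    rintro ⟨_, n, rfl⟩ hτ
    have hn : n ∈ normalizer ((P : Subgroup G) : Set G) := Sylow.smul_eq_iff_mem_normalizer.1 hτ
    obtain ⟨g, hg, hgσ⟩ := (hσP ▸ mem_zpowers σ : σ ∈ (P : Subgroup G).map (act G))
    have h1 : act G (n * g * n⁻¹) ∈ zpowers σ :=
      hσP ▸ mem_map_of_mem _ ((mem_normalizer_iff.1 hn g).1 hg)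
    rw [map_mul, map_mul, map_inv, hgσ, ← mem_powers_iff_mem_zpowers,
      mem_powers_iff_mem_range_orderOf, hσo] at h1
    obtain ⟨k, hk, hk'⟩ := Finset.mem_image.1 h1
    refine ⟨⟨k, Finset.mem_range.1 hk⟩, fun h => ?_, hk'.symm⟩
    simp only at h
    rw [h, pow_zero, eq_comm, conj_eq_one_iff] at hk'
    rw [hk', orderOf_one] at hσo
    norm_num at hσo
  -- an element fixing `P` and centralizing `σ` is determined by one further value
  have hdet : ∀ (τ : Equiv.Perm (Sylow 17 G)) (a : Sylow 17 G), a ≠ P → τ P = P → Commute τ σ →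
      τ a = a → τ = 1 := by
    intro τ a ha hP hc hta
    refine Equiv.ext fun b => ?_
    by_cases hb : b = P
    · rw [hb, hP]; rfl
    obtain ⟨i, rfl⟩ := hσtr a b ha hb
    rw [← Equiv.Perm.mul_apply, (hc.pow_right i).eq, Equiv.Perm.mul_apply, hta]
    rfl
  have hfix3P : ∀ (τ : (act G).range) (a b : Sylow 17 G), a ≠ P → b ≠ P → a ≠ b → τ • P = P →
      τ • a = a → τ • b = b → τ = 1 := by
    intro τ a b ha hb hab hP h1 h2
    obtain ⟨k, hk0, hk⟩ := hconj τ hP
    obtain ⟨i, rfl⟩ := hσtr a b ha hb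
    have h1' : (τ : Equiv.Perm (Sylow 17 G)) a = a := h1
    have hc : (τ : Equiv.Perm (Sylow 17 G)) * σ ^ i = σ ^ (k.1 * i) * τ := by
      rw [pow_mul, ← hk, conj_pow, inv_mul_cancel_right]
    have h3 : (σ ^ (k.1 * i)) a = (σ ^ i) a := by
      have := Equiv.ext_iff.1 hc a
      rw [Equiv.Perm.mul_apply, Equiv.Perm.mul_apply, h1'] at this
      exact this.symm.trans h2
    have hk1 : k.1 = 1 := by
      by_contra hne
      have hper : ∀ j : ℕ, (σ ^ j) a = a → 17 ∣ j := fun j hj => by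
        by_contra hd
        obtain ⟨l, hl⟩ := exists_pow_eq_self_of_coprime
          (show Nat.Coprime j (orderOf σ) by
            rw [hσo, Nat.coprime_comm]
            exact (Fact.out : Nat.Prime 17).coprime_iff_not_dvd.2 hd)
        refine ha ((hσfix a).1 ?_)
        rw [← hl]
        have : ∀ m, ((σ ^ j) ^ m) a = a := fun m => by
          induction m with
          | zero => rfl
          | succ m ih => rw [pow_succ, Equiv.Perm.mul_apply, hj, ih]
        exact this l
      have hi : ¬ 17 ∣ i := fun hd => hab (by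
        obtain ⟨c, rfl⟩ := hd
        rw [pow_mul, hσ17, one_pow]
        rfl)
      have hk17 := k.2
      have h4 : k.1 * i = (k.1 - 1) * i + i := by
        conv_lhs => rw [show k.1 = (k.1 - 1) + 1 by omega, add_mul, one_mul]
      rw [h4, pow_add, Equiv.Perm.mul_apply] at h3
      obtain ⟨l, hl⟩ : ∃ l, l = 17 * i - i := ⟨_, rfl⟩
      have hinv : ∀ x : Sylow 17 G, (σ ^ l) ((σ ^ i) x) = x := fun x => by
        rw [← Equiv.Perm.mul_apply, ← pow_add, hl, Nat.sub_add_cancel (by omega), pow_mul,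
          hσ17, one_pow]
        rfl
      have h5 := congrArg (σ ^ l) h3
      rw [hinv, ← Equiv.Perm.mul_apply, ← Equiv.Perm.mul_apply, ← pow_add, ← pow_add,
        show l + ((k.1 - 1) * i) + i = (k.1 - 1) * i + 17 * i by omega, pow_add,
        pow_mul σ 17, hσ17, one_pow, mul_one] at h5
      rcases (Fact.out : Nat.Prime 17).dvd_mul.1 (hper _ h5) with h | h
      · have := Nat.le_of_dvd (by omega) h; omega
      · exact hi h
    rw [hk1, pow_one] at hk
    exact Subtype.ext (hdet _ a ha hP (mul_inv_eq_iff_eq_mul.1 hk) h1')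
  have hfix3 : ∀ (τ : (act G).range) (a b c : Sylow 17 G), a ≠ b → a ≠ c → b ≠ c → τ • a = a →
      τ • b = b → τ • c = c → τ = 1 := by
    intro τ a b c hab hac hbc h1 h2 h3
    obtain ⟨h, rfl⟩ := MulAction.exists_smul_eq (act G).range P a
    have key : ∀ x : Sylow 17 G, τ • x = x → (h⁻¹ * τ * h) • h⁻¹ • x = h⁻¹ • x := fun x hx => by
      rw [mul_smul, mul_smul, smul_inv_smul, hx]
    have := hfix3P (h⁻¹ * τ * h) (h⁻¹ • b) (h⁻¹ • c)
      (fun e => hab (by rw [← e, smul_inv_smul]))
      (fun e => hac (by rw [← e, smul_inv_smul]))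
      (fun e => hbc (smul_left_cancel _ e))
      (by have := key _ h1; rwa [inv_smul_smul] at this) (key b h2) (key c h3)
    calc τ = h * (h⁻¹ * τ * h) * h⁻¹ := by group
      _ = 1 := by rw [this]; group
  -- the stabilizer
  obtain ⟨s, hs⟩ : ∃ s, s = Nat.card (MulAction.stabilizer (act G).range P) := ⟨_, rfl⟩
  obtain ⟨Q, hQ⟩ : ∃ Q : Sylow 17 G, Q ≠ P := by
    by_contra h
    push Not at h
    haveI : Subsingleton (Sylow 17 G) := ⟨fun a b => (h a).trans (h b).symm⟩
    have := Nat.card_of_subsingleton P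
    omega
  have hσst : (⟨σ, hσX⟩ : (act G).range) ∈ MulAction.stabilizer (act G).range P :=
    (hσfix P).2 rfl
  have h17 : 17 ∣ s := by
    rw [hs]
    refine hσo.symm.dvd.trans ?_
    have := orderOf_dvd_natCard (⟨⟨σ, hσX⟩, hσst⟩ : MulAction.stabilizer (act G).range P)
    rwa [orderOf_mk, orderOf_mk] at this
  choose kk hk0 hk using fun τ : MulAction.stabilizer (act G).range P => hconj τ.1 τ.2
  have hle : s ≤ 16 * 17 := by
    let F : MulAction.stabilizer (act G).range P → {k : Fin 17 // k.1 ≠ 0} × {R : Sylow 17 G // R ≠ P} :=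
      fun τ => (⟨kk τ, hk0 τ⟩, ⟨τ.1 • Q, fun h =>
        hQ (smul_left_cancel τ.1 (h.trans (MulAction.mem_stabilizer_iff.1 τ.2).symm))⟩)
    have hF : Function.Injective F := by
      intro τ υ h
      have hkk : kk τ = kk υ := congrArg (fun z => z.1.1) h
      have hQQ : τ.1 • Q = υ.1 • Q := congrArg (fun z => z.2.1) h
      have hc : Commute (((υ⁻¹ * τ : MulAction.stabilizer (act G).range P) : (act G).range) :
          Equiv.Perm (Sylow 17 G)) σ := by
        have e := (hk τ).trans (by rw [hkk, ← hk υ])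
        show _ * σ = σ * _
        simp only [Subgroup.coe_mul, Subgroup.coe_inv]
        calc ((υ.1 : Equiv.Perm (Sylow 17 G)))⁻¹ * τ.1 * σ
            = (υ.1 : Equiv.Perm (Sylow 17 G))⁻¹ * ((τ.1 : Equiv.Perm (Sylow 17 G)) * σ *
              (τ.1 : Equiv.Perm (Sylow 17 G))⁻¹) * τ.1 := by group
          _ = σ * ((υ.1 : Equiv.Perm (Sylow 17 G))⁻¹ * τ.1) := by rw [e]; group
      have h1 := hdet _ Q hQ (show (υ⁻¹ * τ).1 • P = P from (υ⁻¹ * τ).2) hc
        (show (υ⁻¹ * τ).1 • Q = Q by
          show (υ.1⁻¹ * τ.1) • Q = Q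
          rw [mul_smul, hQQ, inv_smul_smul])
      exact (inv_mul_eq_one.1 (Subtype.ext (Subtype.ext h1) :
        υ⁻¹ * τ = (1 : MulAction.stabilizer (act G).range P))).symm
    have := Nat.card_le_card_of_injective F hF
    have h16 : Nat.card {k : Fin 17 // k.1 ≠ 0} = 16 := by
      rw [Nat.card_eq_fintype_card]; rfl
    rw [Nat.card_prod, ← hs, h16,
      Nat.card_eq_fintype_card (α := {R : Sylow 17 G // R ≠ P}), Fintype.card_subtype_compl,
      Fintype.card_subtype_eq, ← Nat.card_eq_fintype_card (α := Sylow 17 G), h18] at this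
    exact this
  obtain ⟨d, hd⟩ := h17
  have hstab : ∀ a : Sylow 17 G, Nat.card (MulAction.stabilizer (act G).range a) *
      18 = Nat.card (act G).range := fun a => by
    rw [← h18, ← MulAction.index_stabilizer_of_transitive (G := (act G).range) (X := Sylow 17 G) a]
    exact card_mul_index _
  have hX : Nat.card (act G).range = (17 + 1) * 17 * d := by
    rw [← hstab P, ← hs, hd]; ring
  have hd16 : d < 17 := by
    rw [hd] at hle; omega
  have hres := S0732.result (p := 17) (d := d) (by norm_num)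
    (by rw [← Nat.card_eq_fintype_card, h18]) (act G).range hX hd16
  have hd8 : d = 8 ∨ d = 16 := by
    rcases hres with ⟨h, -⟩ | ⟨h, -⟩ | ⟨q, -, hq, -⟩
    · omega
    · omega
    · exfalso
      rcases Nat.lt_or_ge q 5 with h | h
      · interval_cases q <;> norm_num at hq
      · have := Nat.pow_le_pow_right (show 1 ≤ 2 by norm_num) h
        omega
  refine ⟨d, ⟨h18, by rw [hX]; ring, hd8, fun a => ?_, hfix3⟩, ?_⟩
  · have := hstab a
    rw [hX] at this
    omega
  rcases hres with ⟨h, ⟨e⟩⟩ | ⟨h, ⟨e⟩⟩ | ⟨q, -, hq, -⟩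
  · obtain ⟨g, hg⟩ := exists_orderOf_nine_pgl
    exact ⟨e.symm g, by rw [e.symm.orderOf_eq, hg], Or.inl ⟨by omega, ⟨e⟩⟩⟩
  · obtain ⟨g, hg⟩ := exists_orderOf_nine_psl
    exact ⟨e.symm g, by rw [e.symm.orderOf_eq, hg], Or.inr ⟨by omega, ⟨e⟩⟩⟩
  · exfalso
    rcases Nat.lt_or_ge q 5 with h | h
    · interval_cases q <;> norm_num at hq
    · have := Nat.pow_le_pow_right (show 1 ≤ 2 by norm_num) h
      omega

omit h18

/-- A normal subgroup lying in the normalizer of a Sylow subgroup of another prime. -/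
theorem sylow_le_centralizer {p q : ℕ} [Fact p.Prime] [Fact q.Prime] (hpq : p ≠ q) {M : Subgroup G}
    (hMn : M.Normal) (hM : IsPGroup p M) (R : Sylow q G)
    (hle : M ≤ normalizer ((R : Subgroup G) : Set G)) :
    (R : Subgroup G) ≤ centralizer (M : Set G) := by
  intro r hr
  refine mem_centralizer_iff.2 fun m hm => ?_
  have hd : Disjoint M (R : Subgroup G) := IsPGroup.disjoint_of_ne p q hpq M R hM R.isPGroup'
  have h1 : m * r * m⁻¹ * r⁻¹ ∈ M := by
    have h := mul_mem hm (hMn.conj_mem m⁻¹ (inv_mem hm) r)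
    rwa [show m * (r * m⁻¹ * r⁻¹) = m * r * m⁻¹ * r⁻¹ by group] at h
  have h2 : m * r * m⁻¹ * r⁻¹ ∈ (R : Subgroup G) :=
    mul_mem ((mem_normalizer_iff.1 (hle hm) r).1 hr) (inv_mem hr)
  have h3 : m * r * m⁻¹ * r⁻¹ = 1 := Subgroup.disjoint_def.1 hd h1 h2
  exact mul_inv_eq_iff_eq_mul.1 (mul_inv_eq_one.1 h3)

/-- A centerless group with Sylow numbers 18, 136, 153. -/
theorem classify (hZ : center G = ⊥)
    (hNS : {c : ℕ | ∃ r : ℕ, r.Prime ∧ r ∣ Nat.card G ∧ c = Nat.card (Sylow r G)} =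
      ({18, 136, 153} : Set ℕ)) :
    Nonempty (G ≃* Matrix.ProjGenLinGroup (Fin 2) (ZMod 17)) ∨
      Nonempty (G ≃* Matrix.ProjectiveSpecialLinearGroup (Fin 2) (ZMod 17)) := by
  classical
  have hval : ∀ r : ℕ, r.Prime → r ∣ Nat.card G →
      Nat.card (Sylow r G) = 18 ∨ Nat.card (Sylow r G) = 136 ∨ Nat.card (Sylow r G) = 153 :=
    fun r hr hd => by
      have h : Nat.card (Sylow r G) ∈ ({18, 136, 153} : Set ℕ) := hNS ▸ ⟨r, hr, hd, rfl⟩
      simpa using h
  have hmod : ∀ r : ℕ, r.Prime → ∀ n, Nat.card (Sylow r G) = n → n % r = 1 := fun r hr n hn => by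
    haveI := Fact.mk hr
    rw [← hn, card_sylow_modEq_one r G]
    exact Nat.one_mod_eq_one.2 hr.ne_one
  have hle : ∀ r : ℕ, r.Prime → ∀ n, Nat.card (Sylow r G) = n → 1 < n → r ≤ n - 1 :=
    fun r hr n hn h1 => by
      have h := hmod r hr n hn
      have h2 := Nat.div_add_mod n r
      have := hr.two_le
      rw [h] at h2
      by_contra hlt
      rcases Nat.eq_zero_or_pos (n / r) with h0 | h0
      · rw [h0, mul_zero] at h2; omega
      · have h3 : r * 1 ≤ r * (n / r) := Nat.mul_le_mul_left r h0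
        omega
  have h17d : 17 ∣ Nat.card G ∧ Nat.card (Sylow 17 G) = 18 := by
    have : (18 : ℕ) ∈ ({18, 136, 153} : Set ℕ) := by simp
    rw [← hNS] at this
    obtain ⟨r, hr, hrd, h⟩ := this
    have h1 := hle r hr 18 h.symm (by norm_num)
    have h2 := hmod r hr 18 h.symm
    have : ∀ r, r ≤ 17 → 18 % r = 1 → r = 17 := by decide +kernel
    obtain rfl := this r h1 h2
    exact ⟨hrd, h.symm⟩
  have h18 := h17d.2
  obtain ⟨d, C, x, hx, hiso⟩ := ctx h18
  letI := Fintype.ofFinite (Sylow 17 G)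
  haveI h2f : Fact (Nat.Prime 2) := ⟨Nat.prime_two⟩
  haveI h3f : Fact (Nat.Prime 3) := ⟨Nat.prime_three⟩
  obtain ⟨K, hK⟩ : ∃ K, K = (act G).ker := ⟨_, rfl⟩
  haveI hKn : K.Normal := hK ▸ MonoidHom.normal_ker _
  have hquot : ∀ (q : ℕ) [Fact q.Prime], Nat.card (Sylow q (G ⧸ K)) =
      Nat.card (Sylow q (act G).range) := fun q _ => by
    subst hK
    exact card_sylow_congr q (QuotientGroup.quotientKerEquivRange (act G))
  have hform : ∀ (q : ℕ) [Fact q.Prime] (R : Sylow q G), Nat.card (Sylow q G) =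
      Nat.card (Sylow q (act G).range) * (normalizer ((R : Subgroup G) : Set G)).relIndex K :=
    fun q _ R => by rw [← hquot q]; exact SylowNumber.card_sylow_eq_mul R K
  have h18G : 18 ∣ Nat.card G := by
    obtain ⟨P⟩ : Nonempty (Sylow 17 G) := inferInstance
    rw [← h18, P.card_eq_index_normalizer]
    exact index_dvd_card _
  have hn2 : Nat.card (Sylow 2 G) = 153 := by
    rcases hval 2 Nat.prime_two ((show 2 ∣ 18 by norm_num).trans h18G) with h | h | h
    · exact absurd (hmod 2 Nat.prime_two _ h) (by norm_num)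
    · exact absurd (hmod 2 Nat.prime_two _ h) (by norm_num)
    · exact h
  have hn3 : Nat.card (Sylow 3 G) = 136 := by
    rcases hval 3 Nat.prime_three ((show 3 ∣ 18 by norm_num).trans h18G) with h | h | h
    · exact absurd (hmod 3 Nat.prime_three _ h) (by norm_num)
    · exact h
    · exact absurd (hmod 3 Nat.prime_three _ h) (by norm_num)
  have hK2 : ∀ R : Sylow 2 G, K ≤ normalizer ((R : Subgroup G) : Set G) := fun R => by
    have h := hform 2 R
    rw [hn2, card_sylow_two C] at h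
    exact relIndex_eq_one.1 (by omega)
  have hK3 : ∀ R : Sylow 3 G, K ≤ normalizer ((R : Subgroup G) : Set G) := fun R => by
    have h := hform 3 R
    have hd : Nat.card (Sylow 3 (act G).range) ∣ 136 := ⟨_, hn3.symm.trans h⟩
    rw [hn3, card_sylow_three C hx hd] at h
    exact relIndex_eq_one.1 (by omega)
  have hK17 : ∀ R : Sylow 17 G, K ≤ normalizer ((R : Subgroup G) : Set G) := fun R g hg =>
    Sylow.smul_eq_iff_mem_normalizer.1 (mem_ker_act.1 (hK ▸ hg) R)
  have hKall : ∀ (q : ℕ) [Fact q.Prime], q = 2 ∨ q = 3 ∨ q = 17 →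
      ∀ R : Sylow q G, K ≤ normalizer ((R : Subgroup G) : Set G) := by
    intro q _ hq R
    rcases hq with rfl | rfl | rfl
    exacts [hK2 R, hK3 R, hK17 R]
  -- the intersection of `K` with a Sylow subgroup is normal
  have hMn : ∀ (q : ℕ) [Fact q.Prime], q = 2 ∨ q = 3 ∨ q = 17 → ∀ R : Sylow q G,
      ((R : Subgroup G) ⊓ K).Normal := by
    intro q _ hq R
    refine ⟨fun y hy g => ⟨?_, hKn.conj_mem y hy.2 g⟩⟩
    have hp : IsPGroup q ((g • R : Sylow q G) : Subgroup G) := (g • R).isPGroup'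
    have h1 : g * y * g⁻¹ ∈ ((g • R : Sylow q G) : Subgroup G) := by
      rw [Sylow.coe_subgroup_smul]
      exact ⟨y, hy.1, rfl⟩
    have h2 : g * y * g⁻¹ ∈ ((g • R : Sylow q G) : Subgroup G) ⊓ K := ⟨h1, hKn.conj_mem y hy.2 g⟩
    have h3 : ((g • R : Sylow q G) : Subgroup G) ⊓ K ≤ (R : Subgroup G) := by
      have h4 : ((g • R : Sylow q G) : Subgroup G) ⊓ K ≤
          normalizer ((R : Subgroup G) : Set G) := inf_le_right.trans (hKall q hq R)
      intro z hz
      exact (((hp.to_le inf_le_left : IsPGroup q (((g • R : Sylow q G) : Subgroup G) ⊓ K :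
        Subgroup G)).inf_normalizer_sylow R).le ⟨hz, h4 hz⟩).2
    exact h3 h2
  -- no primes five or nineteen
  have hprimes : ∀ r : ℕ, r.Prime → r ∣ Nat.card G → r = 2 ∨ r = 3 ∨ r = 17 := by
    intro r hr hrd
    by_contra hne
    push Not at hne
    obtain ⟨hr2, hr3, hr17⟩ := hne
    haveI := Fact.mk hr
    have h519 : (r = 5 ∧ Nat.card (Sylow r G) = 136) ∨ (r = 19 ∧ Nat.card (Sylow r G) = 153) := by
      rcases hval r hr hrd with h | h | h
      · have h1 := hle r hr _ h (by norm_num)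
        have : ∀ r, r ≤ 17 → 18 % r = 1 → r = 17 := by decide +kernel
        exact absurd (this r h1 (hmod r hr _ h)) hr17
      · refine Or.inl ⟨?_, h⟩
        have hd : r ∣ 135 := by
          have := Nat.div_add_mod 136 r
          rw [hmod r hr _ h] at this
          exact ⟨136 / r, by omega⟩
        rcases (Nat.Prime.dvd_mul hr).1 (show r ∣ 3 ^ 3 * 5 from hd) with h' | h'
        · exact absurd ((Nat.prime_dvd_prime_iff_eq hr Nat.prime_three).1 (hr.dvd_of_dvd_pow h')) hr3
        · exact (Nat.prime_dvd_prime_iff_eq hr (by norm_num)).1 h'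
      · refine Or.inr ⟨?_, h⟩
        have hd : r ∣ 152 := by
          have := Nat.div_add_mod 153 r
          rw [hmod r hr _ h] at this
          exact ⟨153 / r, by omega⟩
        rcases (Nat.Prime.dvd_mul hr).1 (show r ∣ 2 ^ 3 * 19 from hd) with h' | h'
        · exact absurd ((Nat.prime_dvd_prime_iff_eq hr Nat.prime_two).1 (hr.dvd_of_dvd_pow h')) hr2
        · exact (Nat.prime_dvd_prime_iff_eq hr (by norm_num)).1 h'
    obtain ⟨R⟩ : Nonempty (Sylow r G) := inferInstance
    have hrX : ¬ r ∣ Nat.card (act G).range := by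
      rw [C.card]
      rcases C.d_cases with rfl | rfl <;> rcases h519 with ⟨rfl, -⟩ | ⟨rfl, -⟩ <;> norm_num
    have hRK : (R : Subgroup G) ≤ K := by
      rw [hK, ← Subgroup.map_eq_bot_iff]
      refine eq_bot_of_card_eq _ ?_
      obtain ⟨n, hn⟩ := (R.isPGroup'.map (act G)).exists_card_eq
      rcases n with _ | n
      · rw [hn, pow_zero]
      · exfalso
        refine hrX ?_
        have h1 : Nat.card ((R : Subgroup G).map (act G)) ∣ Nat.card (act G).range :=
          card_dvd_of_le (MonoidHom.range_eq_map (act G) ▸ map_mono le_top)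
        rw [hn, pow_succ] at h1
        exact (dvd_mul_left r _).trans h1
    -- `n_r (G) = n_r (K)`
    have hnK : Nat.card (Sylow r K) = Nat.card (Sylow r G) := by
      rw [SylowNumber.card_sylow_subgroup R K, inf_eq_left.2 hRK, hform r R]
      haveI : Subsingleton (Sylow r (act G).range) := by
        refine ⟨fun a b => Sylow.ext ?_⟩
        have h1 : ∀ S : Sylow r (act G).range, (S : Subgroup (act G).range) = ⊥ := fun S => by
          refine eq_bot_of_card_eq _ ?_
          obtain ⟨n, hn⟩ := S.isPGroup'.exists_card_eq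
          rcases n with _ | n
          · rw [hn, pow_zero]
          · exfalso
            refine hrX ((dvd_pow_self r (Nat.succ_ne_zero n)).trans ?_)
            rw [← hn]
            exact card_subgroup_dvd_card _
        rw [h1, h1]
      rw [Nat.card_unique (α := Sylow r (act G).range), one_mul]
    obtain ⟨P⟩ : Nonempty (Sylow 17 G) := inferInstance
    obtain ⟨R17, hR17⟩ := SylowNumber.exists_sylow_inf P K
    haveI hMKn : (R17 : Subgroup K).Normal := by
      rw [hR17]; exact (hMn 17 (Or.inr (Or.inr rfl)) P).subgroupOf K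
    obtain ⟨R'⟩ : Nonempty (Sylow r K) := inferInstance
    have hmul := SylowNumber.card_sylow_eq_mul R' (R17 : Subgroup K)
    rw [hnK] at hmul
    obtain ⟨s, hs⟩ : ∃ s, s = Nat.card (Sylow r (K ⧸ (R17 : Subgroup K))) := ⟨_, rfl⟩
    rw [← hs] at hmul
    have hs17 : ¬ 17 ∣ s := fun h => R17.not_dvd_index (by
      refine h.trans ?_
      rw [hs, index_eq_card]
      obtain ⟨S⟩ : Nonempty (Sylow r (K ⧸ (R17 : Subgroup K))) := inferInstance
      rw [S.card_eq_index_normalizer]
      exact index_dvd_card _)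
    have hsmod : s % r = 1 := by
      rw [hs, card_sylow_modEq_one r]; exact Nat.one_mod_eq_one.2 hr.ne_one
    obtain ⟨t, ht⟩ : ∃ t, t = (normalizer ((R' : Subgroup K) : Set K)).relIndex (R17 : Subgroup K) :=
      ⟨_, rfl⟩
    rw [← ht] at hmul
    have ht17 : ∃ j, t = 17 ^ j := by
      obtain ⟨n, hn⟩ := R17.isPGroup'.exists_card_eq
      have h1 : t ∣ 17 ^ n := by rw [ht, ← hn]; exact relIndex_dvd_card _ _
      obtain ⟨j, -, hj⟩ := (Nat.dvd_prime_pow (Fact.out : Nat.Prime 17)).1 h1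
      exact ⟨j, hj⟩
    obtain ⟨j, rfl⟩ := ht17
    have hlist : ∀ j s, 1 < s * 17 ^ j → (s * 17 ^ j = 136 ∨ s * 17 ^ j = 153) → ¬ 17 ∣ s →
        j = 1 ∧ (s = 8 ∨ s = 9) := by
      intro j s _ h hs
      rcases j with _ | _ | j
      · rw [pow_zero, mul_one] at h
        rcases h with rfl | rfl <;> norm_num at hs
      · exact ⟨rfl, by rw [zero_add, pow_one] at h; omega⟩
      · exfalso
        have h289 : 289 ∣ s * 17 ^ (j + 2) := ⟨s * 17 ^ j, by rw [pow_add]; ring⟩
        rcases h with h | h <;> rw [h] at h289 <;> norm_num at h289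
    rcases h519 with ⟨rfl, h⟩ | ⟨rfl, h⟩ <;> rw [h] at hmul
    · obtain ⟨-, hs' | hs'⟩ := hlist j s (by omega) (Or.inl hmul.symm) hs17 <;>
        rw [hs'] at hsmod <;> norm_num at hsmod
    · obtain ⟨-, hs' | hs'⟩ := hlist j s (by omega) (Or.inr hmul.symm) hs17 <;>
        rw [hs'] at hsmod <;> norm_num at hsmod
  -- the normal intersections are trivial
  have htriv : ∀ (q : ℕ) [Fact q.Prime], q = 2 ∨ q = 3 ∨ q = 17 → ∀ R : Sylow q G,
      (R : Subgroup G) ⊓ K = ⊥ := by
    intro q _ hq R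
    haveI := hMn q hq R
    by_contra hne
    obtain ⟨M, hM⟩ : ∃ M, M = (R : Subgroup G) ⊓ K := ⟨_, rfl⟩
    rw [← hM] at hne
    haveI : (M.subgroupOf (R : Subgroup G)).Normal := hM ▸ (hMn q hq R).subgroupOf _
    have hne' : M.subgroupOf (R : Subgroup G) ≠ ⊥ := fun h => hne (by
      rw [subgroupOf_eq_bot] at h
      exact le_bot_iff.1 (h le_rfl (hM ▸ inf_le_left)))
    obtain ⟨z, hz, hz1⟩ := (bot_or_exists_ne_one _).resolve_left
      (Fusion.pGroup_inf_center_ne_bot R.isPGroup' (M.subgroupOf (R : Subgroup G)) hne')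
    have hzM : (z : G) ∈ M := hz.1
    have hMp : IsPGroup q M := R.isPGroup'.to_le (hM ▸ inf_le_left)
    have hzZ : (z : G) ∈ center G := by
      rw [← SetLike.mem_coe, ← Set.singleton_subset_iff, ← centralizer_eq_top_iff_subset]
      rw [← index_eq_one]
      by_contra hidx
      obtain ⟨r, hr, hrd⟩ := Nat.exists_prime_and_dvd hidx
      haveI := Fact.mk hr
      have hrG : r ∣ Nat.card G := hrd.trans (index_dvd_card _)
      by_cases hrq : r = q
      · subst hrq
        refine R.not_dvd_index (hrd.trans (index_dvd_of_le fun a ha => ?_))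
        rw [mem_centralizer_singleton_iff]
        exact congrArg Subtype.val (mem_center_iff.1 hz.2 ⟨a, ha⟩)
      · obtain ⟨S⟩ : Nonempty (Sylow r G) := inferInstance
        have hMS : M ≤ normalizer ((S : Subgroup G) : Set G) :=
          (hM ▸ inf_le_right : M ≤ K).trans (hKall r (hprimes r hr hrG) S)
        refine S.not_dvd_index (hrd.trans (index_dvd_of_le fun a ha => ?_))
        have h := sylow_le_centralizer (fun h => hrq h.symm) (hM ▸ hMn q hq R) hMp S hMS ha
        exact mem_centralizer_singleton_iff.2 (mem_centralizer_iff.1 h _ hzM).symm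
    rw [hZ, mem_bot] at hzZ
    exact hz1 (Subtype.ext hzZ)
  have hKbot : (act G).ker = ⊥ := by
    rw [← hK]
    by_contra hne
    obtain ⟨r, hr, hrd⟩ := Nat.exists_prime_and_dvd
      (fun h => hne (eq_bot_of_card_eq _ h) : Nat.card K ≠ 1)
    haveI := Fact.mk hr
    obtain ⟨⟨y, hyK⟩, hy⟩ := exists_prime_orderOf_dvd_card' r hrd
    replace hy : orderOf y = r := (Subgroup.orderOf_coe ⟨y, hyK⟩).trans hy
    obtain ⟨S, hS⟩ := (IsPGroup.of_card (p := r) (n := 1)
      (by rw [Nat.card_zpowers, hy, pow_one]) : IsPGroup r (zpowers y)).exists_le_sylow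
    have h1 : y ∈ (S : Subgroup G) ⊓ K := ⟨hS (mem_zpowers y), hyK⟩
    rw [htriv r (hprimes r hr (hrd.trans (card_subgroup_dvd_card K))) S, mem_bot] at h1
    rw [h1, orderOf_one] at hy
    exact hr.ne_one hy.symm
  have e0 : G ≃* (act G).range := MonoidHom.ofInjective ((MonoidHom.ker_eq_bot_iff _).1 hKbot)
  rcases hiso with ⟨-, ⟨e⟩⟩ | ⟨-, ⟨e⟩⟩
  · exact Or.inl ⟨e0.trans e⟩
  · exact Or.inr ⟨e0.trans e⟩

end Cfsg.Agent.Fg24.Sylow17
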